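import Mathlib.RingTheory.AdicCompletion.Algebra
import Mathlib

/-!
A map of algebras which is bijective modulo all powers of an ideal induces an isomorphism of
completions.
-/

open Ideal.Quotient

namespace Groth.Agent.CplLevelH7

universe u

variable {A B T : Type u} [CommRing A] [CommRing B] [CommRing T] [Algebra A B] [Algebra A T]
  (I : Ideal A) (f : B →ₐ[A] T)

theorem map_pow_le (n : ℕ) :
    (I.map (algebraMap A B)) ^ n ≤ ((I.map (algebraMap A T)) ^ n).comap f := by
  rw [← Ideal.map_le_iff_le_comap, Ideal.map_pow]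
  refine Ideal.pow_right_mono (le_of_eq ?_) n
  show Ideal.map f.toRingHom (I.map (algebraMap A B)) = _
  rw [Ideal.map_map]
  exact congrArg (Ideal.map · I) f.comp_algebraMap

/-- The map on the `n`-th levels. -/
noncomputable def lev (n : ℕ) :
    B ⧸ (I.map (algebraMap A B)) ^ n →ₐ[A] T ⧸ (I.map (algebraMap A T)) ^ n :=
  Ideal.quotientMapₐ _ f (map_pow_le I f n)

theorem lev_mk (n : ℕ) (b : B) : lev I f n (Ideal.Quotient.mk _ b) = Ideal.Quotient.mk _ (f b) :=
  rfl

variable (h : ∀ n, Function.Bijective (lev I f n))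

/-- The isomorphism of the `n`-th levels. -/
noncomputable def levEquiv (n : ℕ) :
    (B ⧸ (I.map (algebraMap A B)) ^ n) ≃ₐ[A] (T ⧸ (I.map (algebraMap A T)) ^ n) :=
  AlgEquiv.ofBijective (lev I f n) (h n)

include h in
theorem exists_cplEquiv :
    Nonempty (AdicCompletion (I.map (algebraMap A B)) B ≃ₐ[A]
      AdicCompletion (I.map (algebraMap A T)) T) := by
  let J := I.map (algebraMap A B)
  let J' := I.map (algebraMap A T)
  have htr : ∀ {m n : ℕ} (hle : m ≤ n) (x : B ⧸ J ^ n),
      factorₐ A (Ideal.pow_le_pow_right hle) (lev I f n x) =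
        lev I f m (factorₐ A (Ideal.pow_le_pow_right hle) x) := fun hle x => by
    obtain ⟨b, rfl⟩ := Ideal.Quotient.mk_surjective x
    rfl
  have htr' : ∀ {m n : ℕ} (hle : m ≤ n) (y : T ⧸ J' ^ n),
      factorₐ A (Ideal.pow_le_pow_right hle) ((levEquiv I f h n).symm y) =
        (levEquiv I f h m).symm (factorₐ A (Ideal.pow_le_pow_right hle) y) := fun {m n} hle y => by
    apply (levEquiv I f h m).injective
    rw [AlgEquiv.apply_symm_apply]
    refine (htr hle _).symm.trans ?_
    rw [show lev I f n ((levEquiv I f h n).symm y) = y from (levEquiv I f h n).apply_symm_apply y]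
  have hfac : ∀ {m n : ℕ} (hle : m ≤ n) (x : AdicCompletion J B),
      factorₐ A (Ideal.pow_le_pow_right hle) (AdicCompletion.evalₐ J n x) =
        AdicCompletion.evalₐ J m x := fun hle x => by
    induction x using AdicCompletion.induction_on with | h r =>
    rw [AdicCompletion.evalₐ_mk, AdicCompletion.evalₐ_mk]
    exact AdicCompletion.Ideal.mk_eq_mk J hle r
  have hfac' : ∀ {m n : ℕ} (hle : m ≤ n) (x : AdicCompletion J' T),
      factorₐ A (Ideal.pow_le_pow_right hle) (AdicCompletion.evalₐ J' n x) =
        AdicCompletion.evalₐ J' m x := fun hle x => by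
    induction x using AdicCompletion.induction_on with | h r =>
    rw [AdicCompletion.evalₐ_mk, AdicCompletion.evalₐ_mk]
    exact AdicCompletion.Ideal.mk_eq_mk J' hle r
  let F := AdicCompletion.liftAlgHom (R := A) J'
    (fun n => (lev I f n).comp ((AdicCompletion.evalₐ J n).restrictScalars A))
    fun hle => AlgHom.ext fun x => (htr hle _).trans (congrArg _ (hfac hle x))
  let G := AdicCompletion.liftAlgHom (R := A) J
    (fun n => (levEquiv I f h n).symm.toAlgHom.comp ((AdicCompletion.evalₐ J' n).restrictScalars A))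
    fun hle => AlgHom.ext fun x => (htr' hle _).trans (congrArg _ (hfac' hle x))
  refine ⟨AlgEquiv.ofAlgHom F G ?_ ?_⟩
  · refine AlgHom.ext fun x => AdicCompletion.ext_evalₐ fun n => ?_
    rw [AlgHom.comp_apply, AdicCompletion.evalₐ_liftAlgHom]
    show lev I f n (AdicCompletion.evalₐ J n (G x)) = _
    rw [AdicCompletion.evalₐ_liftAlgHom]
    exact (levEquiv I f h n).apply_symm_apply _
  · refine AlgHom.ext fun x => AdicCompletion.ext_evalₐ fun n => ?_
    rw [AlgHom.comp_apply, AdicCompletion.evalₐ_liftAlgHom]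
    show (levEquiv I f h n).symm (AdicCompletion.evalₐ J' n (F x)) = _
    rw [AdicCompletion.evalₐ_liftAlgHom]
    exact (levEquiv I f h n).symm_apply_apply _

end Groth.Agent.CplLevelH7
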