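import Groth.Agent.Lib.CplLevelH7.Equiv
import Groth.Agent.Lib.Hens.PairApi
import Groth.Agent.Lib.HensH7.PairNoetherian

/-!
Quotients of the henselization of a pair have the same completion as finite type algebras.
-/

open Groth.Agent.Hens

namespace Groth.Agent.CplLevelH7

universe u

variable {C : Type u} [CommRing C] {K : Ideal C} {Ch : Type u} [CommRing Ch] [Algebra C Ch]

/-- The canonical map from the coordinate ring of a neighbourhood. -/
noncomputable def χ (e : PHs K ≃ₐ[C] Ch) (k : PNbhd K) : k.S →ₐ[C] Ch :=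
  e.toAlgHom.comp ((PHs.of k).comp (IsScalarTower.toAlgHom C k.S k.G))

theorem exists_stage (e : PHs K ≃ₐ[C] Ch) (s : Finset Ch) :
    ∃ k : PNbhd K, ∀ a ∈ s, a ∈ (χ e k).range := by
  classical
  induction s using Finset.induction with
  | empty => exact ⟨Classical.arbitrary _, by simp⟩
  | insert a s _ ih =>
    obtain ⟨i, hi⟩ := ih
    obtain ⟨j, y, hy⟩ := PHs.exists_of_S (e.symm a)
    obtain ⟨k, φ, ψ, -, -⟩ := PNbhd.exists_upper i j
    have hφ := PHs.algHom_eq i (((PHs.of k).comp (IsScalarTower.toAlgHom C k.S k.G)).comp φ)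
      ((PHs.of i).comp (IsScalarTower.toAlgHom C i.S i.G))
    have hψ := PHs.algHom_eq j (((PHs.of k).comp (IsScalarTower.toAlgHom C k.S k.G)).comp ψ)
      ((PHs.of j).comp (IsScalarTower.toAlgHom C j.S j.G))
    refine ⟨k, fun b hb => ?_⟩
    rcases Finset.mem_insert.mp hb with rfl | hb
    · refine ⟨ψ y, ?_⟩
      show e _ = b
      refine (congrArg e (congr($hψ y))).trans ?_
      show e (PHs.of j (algebraMap j.S j.G y)) = b
      rw [hy, e.apply_symm_apply]
    · obtain ⟨z, hz⟩ := hi b hb
      refine ⟨φ z, ?_⟩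
      rw [← hz]
      exact congrArg e congr($hφ z)

theorem chi_bijective (hB : Hens2.IsPairHenselization C K Ch) (e : PHs K ≃ₐ[C] Ch) (k : PNbhd K)
    (n : ℕ) : Function.Bijective (lev K (χ e k) n) := by
  let q : C → k.S ⧸ (K.map (algebraMap C k.S)) ^ n := fun c => Ideal.Quotient.mk _ (algebraMap C k.S c)
  have hq : Function.Surjective q := by
    intro y
    obtain ⟨x, rfl⟩ := Ideal.Quotient.mk_surjective y
    induction n generalizing x with
    | zero => exact ⟨0, Ideal.Quotient.eq.mpr (by simp)⟩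
    | succ n ih =>
      obtain ⟨r, hr⟩ := ih x
      have hr' := Ideal.Quotient.eq.mp hr
      have key : ∀ w ∈ (K.map (algebraMap C k.S)) ^ n, ∃ c : C,
          algebraMap C k.S c - w ∈ (K.map (algebraMap C k.S)) ^ (n + 1) := by
        intro w hw
        rw [← Ideal.map_pow] at hw
        refine Submodule.span_induction ?_ ⟨0, by simp⟩ ?_ ?_ hw
        · rintro _ ⟨a, -, rfl⟩
          exact ⟨a, by simp⟩
        · rintro a b - - ⟨r, hr⟩ ⟨s, hs⟩
          exact ⟨r + s, by rw [map_add, add_sub_add_comm]; exact add_mem hr hs⟩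
        · rintro c a hac ⟨r, hr⟩
          obtain ⟨s, hs⟩ := exists_sub_mem_of_ker_eq k.σ k.ker_σ c
          refine ⟨s * r, ?_⟩
          rw [smul_eq_mul, map_mul, show algebraMap C k.S s * algebraMap C k.S r - c * a =
            algebraMap C k.S s * (algebraMap C k.S r - a) - (c - algebraMap C k.S s) * a by ring]
          refine sub_mem (Ideal.mul_mem_left _ _ hr) ?_
          rw [← Ideal.map_pow, pow_succ' K n, Ideal.map_mul]
          exact Ideal.mul_mem_mul hs hac
      obtain ⟨c, hc⟩ := key _ hr'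
      refine ⟨r - c, Ideal.Quotient.eq.mpr ?_⟩
      rw [map_sub]
      have := neg_mem hc
      rw [show algebraMap C k.S r - algebraMap C k.S c - x =
        -(algebraMap C k.S c - (algebraMap C k.S r - x)) by ring]
      exact this
  have hb := IsPairHenselization.quotientMap_bijective hB (K ^ n)
    (fun x hx => ⟨n, Ideal.pow_mem_pow hx n⟩)
  constructor
  · rw [injective_iff_map_eq_zero]
    intro y hy
    obtain ⟨c, rfl⟩ := hq y
    rw [lev_mk, AlgHom.commutes, Ideal.Quotient.eq_zero_iff_mem, ← Ideal.map_pow] at hy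
    have hc : Ideal.Quotient.mk (K ^ n) c = 0 := hb.1 (by
      rw [Ideal.quotientMap_mk, map_zero, Ideal.Quotient.eq_zero_iff_mem]; exact hy)
    show Ideal.Quotient.mk _ (algebraMap C k.S c) = 0
    rw [Ideal.Quotient.eq_zero_iff_mem, ← Ideal.map_pow]
    exact Ideal.mem_map_of_mem _ (Ideal.Quotient.eq_zero_iff_mem.mp hc)
  · intro y
    obtain ⟨x, rfl⟩ := Ideal.Quotient.mk_surjective y
    obtain ⟨z, hz⟩ := hb.2 (Ideal.Quotient.mk _ x)
    obtain ⟨c, rfl⟩ := Ideal.Quotient.mk_surjective z
    refine ⟨q c, ?_⟩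
    rw [lev_mk, AlgHom.commutes, Ideal.Quotient.eq, ← Ideal.map_pow]
    exact Ideal.Quotient.eq.mp hz

end Groth.Agent.CplLevelH7
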